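import Cfsg.Agent.H317.PQ.Defs
import Cfsg.Agent.H133.PB.LieCross
import Cfsg.Agent.S0914
import Cfsg.Agent.Blocks.ExistsModular

/-!
# S4612, own characteristic (helper947)

* `row_own` : in a group of Lie type of characteristic `r`, the principal `r`-block is not the principal `q`-block
  for a prime divisor `q ≠ r` of the order.
-/

set_option autoImplicit false

open Cfsg Cfsg.Agent

namespace Cfsg.Agent.H947.PQ

open Cfsg.Agent.H317.PQ Cfsg.Agent.Blocks.Basic

universe u

variable {G : Type u} [Group G]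

/-- The Steinberg character is the only one outside the principal `r`-block. -/
theorem exists_st [Finite G] {r : ℕ} (hr : r.Prime) (hG : IsLieTypeChar r G) :
    ∃ st : IrrCharacter G, charDegree (st : G → ℂ) = r ^ (Nat.card G).factorization r ∧
      (∀ χ : IrrCharacter G, χ ≠ st → χ ∈ B0 r G) ∧ r ∣ Nat.card G := by
  have : Fact r.Prime := ⟨hr⟩
  have : IsSimpleGroup G := H400.LieSimple.isSimple_of_lie hG
  have hS := H716.SplitAb.hasSplitAb_of_lie hr hG
  have hS' := H330.Gow.hasSplit_of_ab hS
  have hdvd := H330.Gow.dvd_card hS'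
  obtain ⟨ψ, hψ, hψ1, -⟩ := H330.GowSt.exists_st_of_hasSplit hS'
  let st : IrrCharacter G := ⟨ψ, hψ⟩
  have hdeg : charDegree ψ = r ^ (Nat.card G).factorization r := Blocks.Basic.charDegree_of_eq hψ1
  have hst : ¬ r ∣ Nat.card G / charDegree (st : G → ℂ) := by
    rw [H143.ChevBlocks.not_dvd_iff st.2]
    show _ ≤ (charDegree ψ).factorization r
    rw [hdeg, hr.factorization_pow]
    simp
  have huniq : ∀ φ : IrrCharacter G, ¬ r ∣ Nat.card G / charDegree (φ : G → ℂ) → φ = st := fun φ hφ =>
    H330.GowOne.unique_of_hasSplitAb hS (H330.Gow.perfect_of_split hS') φ st hφ hst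
  refine ⟨st, hdeg, fun χ hχ M hM => ?_, hdvd⟩
  exact H330.GowBlock.mem_principal hM hdvd (H330.Gow.locChar_of_lie hG) (H400.LieLocal.center_eq_bot hS') st hst
    huniq χ hχ

/-- **Own characteristic** : the principal `r`-block of a group of Lie type of characteristic `r` is not the
principal `q`-block, `q ≠ r` a prime divisor of the order. -/
theorem row_own [Finite G] {r q : ℕ} (hr : r.Prime) (hq : q.Prime) (hqr : q ≠ r) (hG : IsLieTypeChar r G)
    (hqG : q ∣ Nat.card G) : ¬ Same r q G := by
  intro hS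
  have : Fact r.Prime := ⟨hr⟩
  have : Fact q.Prime := ⟨hq⟩
  obtain ⟨st, hdeg, hall, hrG⟩ := exists_st hr hG
  obtain ⟨R, hR⟩ := Blocks.ExistsModular.exists_isPModular hr
  obtain ⟨M, hM⟩ := Blocks.ExistsModular.exists_isPModular hq
  have hRp : R.IsPrime := hR.2.1.isPrime
  have hMp : M.IsPrime := hM.2.1.isPrime
  have hG0 : Nat.card G ≠ 0 := Nat.card_pos.ne'
  -- the Steinberg character is not in the principal `r`-block
  have hst : ¬ r ∣ Nat.card G / charDegree (st : G → ℂ) := by
    rw [hdeg]
    exact Nat.not_dvd_ordCompl hr hG0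
  have hsing := (S0914.result r R hR st).1 hst
  have hnr : st ∉ B0 r G := by
    intro h
    rw [B0_eq hr hR] at h
    have h1 : (⟨_, isIrrCharacter_one⟩ : IrrCharacter G) ∈ blockOf R (st : G → ℂ) := by
      rw [mem_blockOf]
      exact sameBlock_symm h
    rw [hsing, Set.mem_singleton_iff] at h1
    have h2 : charDegree (st : G → ℂ) = 1 := by
      rw [← h1]
      exact charDegree_of_eq (by simp)
    rw [hdeg] at h2
    have h3 := hr.factorization_pos_of_dvd hG0 hrG
    exact (Nat.one_lt_pow h3.ne' hr.one_lt).ne' h2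
  -- it is alone in its `q`-block
  have hsq : blockOf M (st : G → ℂ) = {st} := by
    ext ψ
    rw [Set.mem_singleton_iff, mem_blockOf]
    refine ⟨fun h => ?_, fun h => h ▸ sameBlock_refl _⟩
    by_contra hne
    have h1 : ψ ∈ B0 q G := by
      have h2 := hall ψ hne
      rwa [show B0 r G = B0 q G from hS] at h2
    rw [B0_eq hq hM] at h1
    apply hnr
    rw [show B0 r G = B0 q G from hS, B0_eq hq hM]
    exact sameBlock_trans h1 (sameBlock_symm h)
  refine (S0914.result q M hM st).2 hsq ?_
  rw [hdeg]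
  have hcop : Nat.Coprime q (r ^ (Nat.card G).factorization r) :=
    (Nat.Prime.coprime_iff_not_dvd hq).2 fun h =>
      hqr ((Nat.prime_dvd_prime_iff_eq hq hr).1 (hq.dvd_of_dvd_pow h))
  refine hcop.dvd_of_dvd_mul_left ?_
  rw [Nat.ordProj_mul_ordCompl_eq_self]
  exact hqG

end Cfsg.Agent.H947.PQ
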